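import Groth.Agent.Lib.CohDelta.IndExt.Exact
import Groth.Agent.Lib.CohDelta.FPApprox.Colim
import Groth.Agent.Lib.ZarCoh.FP
import Groth.Agent.Lib.FPHom.QcCover
import Groth.Agent.H26.FreeCrit
import Groth.Prelude.Def_QCohCat
import Mathlib.CategoryTheory.Limits.FullSubcategory
import Mathlib.CategoryTheory.ObjectProperty.ContainsZero
import Mathlib.CategoryTheory.Preadditive.Biproducts
import Mathlib.CategoryTheory.Abelian.GrothendieckAxioms.Basic

/-!
# Quasi-coherent modules: limits, colimits, presentability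

Finitely presented modules are finitely presentable in `QCoh X` for quasi-compact quasi-separated
`X`, and quasi-coherent modules are filtered colimits of them.
-/

set_option autoImplicit false
set_option linter.style.haveILetI false
universe u w w'

open CategoryTheory CategoryTheory.Limits AlgebraicGeometry Opposite TopologicalSpace

namespace Groth.Agent.Lib.CohDelta.IndExt.QCoh

open Groth.Agent.Lib

variable {X : Scheme.{u}}

instance (J : Type w) [Category.{w'} J] [∀ R : CommRingCat.{u}, HasColimitsOfShape J (ModuleCat.{u} R)] :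
    (QCohCat.isQCoh X).IsClosedUnderColimitsOfShape J where
  colimitsOfShape_le := by
    rintro M ⟨p⟩
    exact Groth.Agent.Lib.QCoh.Closure.isQCoh_of_isColimit p.isColimit fun j => p.prop_diag_obj j

instance : (QCohCat.isQCoh X).IsClosedUnderLimitsOfShape WalkingParallelPair where
  limitsOfShape_le := by
    rintro M ⟨p⟩
    open WalkingParallelPair WalkingParallelPairHom in
    let f := p.diag.map left
    let g := p.diag.map right
    let c : Cone (parallelPair f g) :=
      (Cone.postcompose (diagramIsoParallelPair p.diag).hom).obj p.cone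
    have hc : IsLimit c :=
      (IsLimit.postcomposeHomEquiv (diagramIsoParallelPair p.diag) p.cone).symm p.isLimit
    let k := Preadditive.isLimitKernelForkOfFork (c := c) hc
    haveI : (p.diag.obj WalkingParallelPair.zero).IsQuasicoherent := p.prop_diag_obj _
    haveI : (p.diag.obj WalkingParallelPair.one).IsQuasicoherent := p.prop_diag_obj _
    haveI := Groth.Agent.Lib.QCoh.Closure.isQCoh_kernel (f - g)
    exact CohBasics.Closure.isQCoh_of_iso (M := kernel (f - g))
      ((kernelIsKernel (f - g)).conePointUniqueUpToIso k)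

instance : (QCohCat.isQCoh X).ContainsZero := by
  haveI := Modules.AffineSections.isQCoh_of_isFinLocFree
    (TensorMod.LocFree.of_rank (TensorMod.LocFree.isFinLocFree_freeMod X 1))
  exact ⟨⟨kernel (𝟙 (FlatMod.freeMod X 1)), isZero_kernel_of_mono _,
    Groth.Agent.Lib.QCoh.Closure.isQCoh_kernel _⟩⟩

instance : HasBinaryBiproducts (QCohCat.QCoh X) :=
  HasBinaryBiproducts.of_hasBinaryCoproducts

instance : HasFiniteBiproducts (QCohCat.QCoh X) :=
  HasFiniteBiproducts.of_hasFiniteCoproducts

instance (J : Type u) [SmallCategory J] [IsFiltered J] :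
    PreservesLimitsOfShape WalkingParallelPair
      (colim : (J ⥤ QCohCat.QCoh X) ⥤ QCohCat.QCoh X) := by
  let ι := (QCohCat.isQCoh X).ι
  haveI : PreservesFiniteLimits (colim : (J ⥤ X.Modules) ⥤ X.Modules) :=
    HasExactColimitsOfShape.preservesFiniteLimits
  haveI : PreservesLimitsOfShape WalkingParallelPair
      (colim (J := J) (C := QCohCat.QCoh X) ⋙ ι) :=
    preservesLimitsOfShape_of_natIso (preservesColimitNatIso ι).symm
  exact preservesLimitsOfShape_of_reflects_of_preserves colim ι

instance : HasFilteredColimitsOfSize.{u, u} (QCohCat.QCoh X) :=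
  ⟨fun _ _ _ => inferInstance⟩

/-- Finite affine coverings refining a given one, with compact intersections. -/
theorem exists_affine_refinement [CompactSpace X] [QuasiSeparatedSpace X]
    (ι : Type u) (V : ι → X.Opens) (hV : iSup V = ⊤) :
    ∃ (A : Type u) (_ : Finite A) (U : A → X.Opens), iSup U = ⊤ ∧ (∀ j, ∃ i, U j ≤ V i) ∧
      ∀ j j', IsCompact ((U j ⊓ U j' : X.Opens) : Set X) := by
  have hx : ∀ x : X, ∃ W : X.Opens, IsAffineOpen W ∧ x ∈ W ∧ ∃ i, W ≤ V i := fun x => by
    obtain ⟨i, hi⟩ := Opens.mem_iSup.mp (hV ▸ trivial : x ∈ iSup V)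
    obtain ⟨W, hW, hxW, hWV⟩ := exists_isAffineOpen_mem_and_subset hi
    exact ⟨W, hW, hxW, i, hWV⟩
  choose W hW hxW hWV using hx
  obtain ⟨t, ht⟩ := isCompact_univ.elim_finite_subcover (fun x => (W x : Set X)) (fun x => (W x).2)
    fun x _ => Set.mem_iUnion.mpr ⟨x, hxW x⟩
  refine ⟨{x // x ∈ t}, inferInstance, fun x => W x.1, eq_top_iff.mpr fun x _ => ?_,
    fun j => hWV _, fun j j' => ?_⟩
  · obtain ⟨y, hy, hxy⟩ := Set.mem_iUnion₂.mp (ht (Set.mem_univ x))
    exact Opens.mem_iSup.mpr ⟨⟨y, hy⟩, hxy⟩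
  · exact QuasiSeparatedSpace.inter_isCompact _ _ (W j.1).2 (hW _).isCompact (W j'.1).2
      (hW _).isCompact

/-- Finitely presented modules are finitely presentable. -/
theorem presentable [CompactSpace X] [QuasiSeparatedSpace X] (M : QCohCat.QCoh X)
    (hM : CohB1.IsFP M.obj) : IsFinitelyPresentable.{u} M := by
  rw [isFinitelyPresentable_iff_preservesFilteredColimitsOfSize]
  refine ⟨fun J _ _ => ⟨fun {D} => ?_⟩⟩
  let ι := (QCohCat.isQCoh X).ι
  let G : ModSite.Mod X.sheaf := M.obj
  haveI : SheafOfModules.IsFinitePresentation (R := ModSite.ringSh X.sheaf) G := hM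
  haveI : PreservesColimit (D ⋙ ι) (coyoneda.obj (op M.obj)) :=
    Groth.Agent.Lib.FPHom.Global.preservesColimit_coyoneda
      (Groth.Agent.Lib.FPHom.QcCover.exists_qc_cover fun κ V hV => exists_affine_refinement κ V hV)
      G (D ⋙ ι)
  haveI : PreservesColimit D (ι ⋙ coyoneda.obj (op M.obj)) := Limits.comp_preservesColimit _ _
  exact preservesColimit_of_natIso D (NatIso.ofComponents (fun N =>
    Equiv.toIso (ObjectProperty.fullyFaithfulι _).homEquiv.symm) (fun _ => rfl) :
      ι ⋙ coyoneda.obj (op M.obj) ≅ coyoneda.obj (op M))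

theorem isFT_of_isFP {M : X.Modules} (h : CohB1.IsFP M) : CohB1.IsFT M := by
  obtain ⟨σ, hσ⟩ := h
  refine SheafOfModules.IsFiniteType.mk (C := X.Opens) (R := X.ringCatSheaf) (M := M)
    ⟨σ.localGeneratorsData, ?_⟩
  constructor
  intro i
  exact (hσ.isFinite_presentation i).isFiniteType_generators

/-- Coherent modules as a property of quasi-coherent ones. -/
abbrev coh (X : Scheme.{u}) : ObjectProperty (QCohCat.QCoh X) := fun M => Coh.IsCoh M.obj

theorem gen_coh [IsNoetherian X] : Gen (coh X) := by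
  refine ⟨fun M hM => presentable M (ZarCoh.FP.isFP_of_isCoh M.obj hM), fun M => ?_⟩
  haveI : M.obj.IsQuasicoherent := M.2
  obtain ⟨I, hI, hI', D, c, hc, hD, hpt⟩ := FPApprox.Colim.exists_colimit M.obj
  have hcoh : ∀ i, Coh.IsCoh (D.obj i) := fun i =>
    ⟨(Groth.Agent.H26.FreeCrit.isQuasicoherent_of_isFP (hD i)), isFT_of_isFP (hD i)⟩
  let e : c.pt ≅ M.obj := eqToIso hpt
  let D' : I ⥤ QCohCat.QCoh X := (QCohCat.isQCoh X).lift D fun i => (hcoh i).1
  let c' : Cocone D' :=
    { pt := M
      ι :=
        { app := fun i => ObjectProperty.homMk (c.ι.app i ≫ e.hom)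
          naturality := fun i j f => ObjectProperty.hom_ext _ (by
            show D.map f ≫ c.ι.app j ≫ e.hom = (c.ι.app i ≫ e.hom) ≫ 𝟙 _
            rw [← Category.assoc, c.w, Category.comp_id]) } }
  have hc' : IsColimit c' := isColimitOfReflects (QCohCat.isQCoh X).ι
    (IsColimit.ofIsoColimit hc (Cocone.ext e fun _ => rfl))
  exact ⟨I, hI, hI', { diag := D', ι := c'.ι, isColimit := hc' }, hcoh⟩

end Groth.Agent.Lib.CohDelta.IndExt.QCoh
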