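import Mathlib.CategoryTheory.Presentable.Finite
import Mathlib.CategoryTheory.Presentable.ColimitPresentation
import Mathlib.CategoryTheory.ObjectProperty.FullSubcategory
import Mathlib.CategoryTheory.Functor.KanExtension.Pointwise
import Mathlib.CategoryTheory.Limits.Final
import Mathlib.CategoryTheory.Filtered.Final
import Mathlib.CategoryTheory.Limits.Constructions.Filtered
import Mathlib.CategoryTheory.Preadditive.AdditiveFunctor
import Mathlib.CategoryTheory.Limits.Preserves.Shapes.Biproducts

/-!
# Functors out of a category of filtered colimits of finitely presentable objects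

Let every object of `C` be a small filtered colimit of objects in `P`, and let the objects in `P`
be finitely presentable. A functor on `P` extends uniquely to a functor on `C` preserving filtered
colimits; if it is additive so is the extension, which then preserves coproducts.
-/

set_option autoImplicit false
set_option linter.style.haveILetI false
universe u w v' u'

open CategoryTheory CategoryTheory.Limits Opposite

namespace Groth.Agent.Lib.CohDelta.IndExt

variable {C : Type w} [Category.{u} C]

/-- Every object is a small filtered colimit of objects in `P`, which are finitely presentable. -/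
structure Gen (P : ObjectProperty C) : Prop where
  presentable : ∀ X, P X → IsFinitelyPresentable.{u} X
  exists_presentation : ∀ X : C, ∃ (J : Type u) (_ : SmallCategory J) (_ : IsFiltered J)
    (p : ColimitPresentation J X), ∀ j, P (p.diag.obj j)

variable {P : ObjectProperty C}

theorem Gen.exists_lift (h : Gen P) {J : Type u} [SmallCategory J] [IsFiltered J] {D : J ⥤ C}
    {c : Cocone D} (hc : IsColimit c) {X : C} (hX : P X) (g : X ⟶ c.pt) :
    ∃ (j : J) (f : X ⟶ D.obj j), f ≫ c.ι.app j = g :=
  haveI := h.presentable X hX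
  IsFinitelyPresentable.exists_hom_of_isColimit hc g

theorem Gen.exists_eq (h : Gen P) {J : Type u} [SmallCategory J] [IsFiltered J] {D : J ⥤ C}
    {c : Cocone D} (hc : IsColimit c) {X : C} (hX : P X) {i : J} (f g : X ⟶ D.obj i)
    (e : f ≫ c.ι.app i = g ≫ c.ι.app i) :
    ∃ (k : J) (t : i ⟶ k), f ≫ D.map t = g ≫ D.map t := by
  haveI := h.presentable X hX
  obtain ⟨k, a, b, hk⟩ := IsFinitelyPresentable.exists_eq_of_isColimit hc f g e
  refine ⟨IsFiltered.coeq a b, a ≫ IsFiltered.coeqHom a b, ?_⟩
  conv_rhs => rw [IsFiltered.coeq_condition a b]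
  simp only [Functor.map_comp, ← Category.assoc, hk]

section

variable {J : Type u} [SmallCategory J] {X : C} (p : ColimitPresentation J X)
  (hp : ∀ j, P (p.diag.obj j))

/-- A presentation by objects in `P`, as a functor to `P`. -/
abbrev diagP : J ⥤ P.FullSubcategory := P.lift p.diag hp

/-- The comparison functor of a presentation. -/
def toArrow : J ⥤ CostructuredArrow P.ι X where
  obj j := CostructuredArrow.mk (Y := (diagP p hp).obj j) (p.ι.app j)
  map {i j} f := CostructuredArrow.homMk ((diagP p hp).map f) (p.w f)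
  map_id _ := by ext; simp
  map_comp _ _ := by ext; simp

theorem final_toArrow (h : Gen P) [IsFiltered J] : (toArrow p hp).Final := by
  rw [Functor.final_iff_of_isFiltered]
  refine ⟨fun g => ?_, fun {g j} s s' => ?_⟩
  · obtain ⟨j, f, hf⟩ := h.exists_lift p.isColimit g.left.2 g.hom
    exact ⟨j, ⟨CostructuredArrow.homMk (ObjectProperty.homMk f) hf⟩⟩
  · have e : s.left.hom ≫ p.ι.app j = s'.left.hom ≫ p.ι.app j :=
      (CostructuredArrow.w s).trans (CostructuredArrow.w s').symm
    obtain ⟨k, t, ht⟩ := h.exists_eq p.isColimit g.left.2 s.left.hom s'.left.hom e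
    exact ⟨k, t, CostructuredArrow.hom_ext _ _ (ObjectProperty.hom_ext _ ht)⟩

end

variable {B : Type u'} [Category.{v'} B]

/-- A functor preserving filtered colimits is the pointwise Kan extension of its restriction. -/
theorem isPointwise (h : Gen P) (G : C ⥤ B) [PreservesFilteredColimitsOfSize.{u, u} G]
    {F : P.FullSubcategory ⥤ B} (α : F ≅ P.ι ⋙ G) :
    Nonempty (Functor.LeftExtension.mk G α.hom).IsPointwiseLeftKanExtension := by
  refine ⟨fun X => Nonempty.some ?_⟩
  obtain ⟨J, _, _, p, hp⟩ := h.exists_presentation X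
  haveI := final_toArrow p hp h
  refine ⟨Functor.Final.isColimitWhiskerEquiv (toArrow p hp) _ ?_⟩
  let e : toArrow p hp ⋙ CostructuredArrow.proj P.ι X ⋙ F ≅ p.diag ⋙ G :=
    NatIso.ofComponents (fun j => α.app ((diagP p hp).obj j))
      fun f => α.hom.naturality ((diagP p hp).map f)
  exact IsColimit.ofIsoColimit
    ((IsColimit.precomposeHomEquiv e _).symm (isColimitOfPreserves G p.isColimit))
    (Cocone.ext (Iso.refl _) fun j => Category.comp_id _)

/-- Uniqueness of extensions. -/
theorem exists_unique (h : Gen P) (F₁ F₂ : C ⥤ B) [PreservesFilteredColimitsOfSize.{u, u} F₁]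
    [PreservesFilteredColimitsOfSize.{u, u} F₂] (e : P.ι ⋙ F₁ ≅ P.ι ⋙ F₂) :
    Nonempty (F₁ ≅ F₂) := by
  obtain ⟨h₁⟩ := isPointwise h F₁ (Iso.refl (P.ι ⋙ F₁))
  obtain ⟨h₂⟩ := isPointwise h F₂ e
  haveI : F₁.IsLeftKanExtension (Iso.refl (P.ι ⋙ F₁)).hom := h₁.isLeftKanExtension
  haveI : F₂.IsLeftKanExtension e.hom := h₂.isLeftKanExtension
  exact ⟨Functor.leftKanExtensionUnique F₁ (Iso.refl (P.ι ⋙ F₁)).hom F₂ e.hom⟩

/-- Existence of extensions. -/
theorem exists_extension (h : Gen P) [HasFilteredColimitsOfSize.{u, u} B]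
    (F : P.FullSubcategory ⥤ B) :
    ∃ F' : C ⥤ B, PreservesFilteredColimitsOfSize.{u, u} F' ∧ Nonempty (P.ι ⋙ F' ≅ F) := by
  haveI : P.ι.HasPointwiseLeftKanExtension F := fun X => by
    obtain ⟨J, _, _, p, hp⟩ := h.exists_presentation X
    haveI := final_toArrow p hp h
    exact Functor.Final.hasColimit_of_comp (toArrow p hp)
  let G := P.ι.pointwiseLeftKanExtension F
  let α := P.ι.pointwiseLeftKanExtensionUnit F
  have hG : (Functor.LeftExtension.mk G α).IsPointwiseLeftKanExtension :=
    Functor.pointwiseLeftKanExtensionIsPointwiseLeftKanExtension P.ι F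
  haveI : IsIso α := hG.isIso_hom
  refine ⟨G, ⟨fun J _ _ => ⟨fun {D} => ⟨fun {c} hc => ?_⟩⟩⟩, ⟨(asIso α).symm⟩⟩
  have wd : ∀ (s : Cocone (D ⋙ G)) {q : P.FullSubcategory} {i j : J} (f : q.obj ⟶ D.obj i)
      (f' : q.obj ⟶ D.obj j), f ≫ c.ι.app i = f' ≫ c.ι.app j →
      α.app q ≫ G.map f ≫ s.ι.app i = α.app q ≫ G.map f' ≫ s.ι.app j := by
    intro s q i j f f' e
    haveI := h.presentable q.obj q.2
    obtain ⟨k, a, b, hk⟩ := IsFinitelyPresentable.exists_eq_of_isColimit hc f f' e
    have ha : G.map (D.map a) ≫ s.ι.app k = s.ι.app i := s.w a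
    have hb : G.map (D.map b) ≫ s.ι.app k = s.ι.app j := s.w b
    rw [← ha, ← hb, ← G.map_comp_assoc, ← G.map_comp_assoc, hk]
  choose J' f hf using fun g : CostructuredArrow P.ι c.pt => h.exists_lift hc g.left.2 g.hom
  let T : ∀ s : Cocone (D ⋙ G), Cocone (CostructuredArrow.proj P.ι c.pt ⋙ F) := fun s =>
    { pt := s.pt
      ι :=
        { app := fun g => α.app g.left ≫ G.map (f g) ≫ s.ι.app (J' g)
          naturality := fun g g' φ => by
            have e1 : F.map φ.left ≫ α.app g'.left = α.app g.left ≫ G.map φ.left.hom :=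
              α.naturality φ.left
            show F.map φ.left ≫ α.app g'.left ≫ G.map (f g') ≫ s.ι.app (J' g') =
              (α.app g.left ≫ G.map (f g) ≫ s.ι.app (J' g)) ≫ 𝟙 _
            rw [reassoc_of% e1, ← G.map_comp_assoc, Category.comp_id]
            refine wd s _ _ ?_
            rw [Category.assoc, hf g', hf g]
            exact CostructuredArrow.w φ } }
  refine ⟨{ desc := fun s => (hG c.pt).desc (T s), fac := fun s j => ?_, uniq := fun s m hm => ?_ }⟩
  · refine (hG (D.obj j)).hom_ext' fun q g => ?_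
    have h1 : α.app q ≫ G.map (g ≫ c.ι.app j) ≫ (hG c.pt).desc (T s) =
        (T s).ι.app (CostructuredArrow.mk (g ≫ c.ι.app j)) :=
      (Category.assoc _ _ _).symm.trans
        ((hG c.pt).fac (T s) (CostructuredArrow.mk (g ≫ c.ι.app j)))
    show α.app q ≫ G.map g ≫ G.map (c.ι.app j) ≫ (hG c.pt).desc (T s) = α.app q ≫ G.map g ≫ s.ι.app j
    rw [← G.map_comp_assoc]
    exact h1.trans (wd s _ _ (hf _))
  · refine (hG c.pt).hom_ext' fun q g => ?_
    have h1 : α.app q ≫ G.map g ≫ (hG c.pt).desc (T s) = (T s).ι.app (CostructuredArrow.mk g) :=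
      (Category.assoc _ _ _).symm.trans ((hG c.pt).fac (T s) (CostructuredArrow.mk g))
    refine Eq.trans ?_ h1.symm
    show α.app q ≫ G.map g ≫ m = α.app q ≫ G.map (f (CostructuredArrow.mk g)) ≫ s.ι.app _
    conv_lhs => rw [show g = f (CostructuredArrow.mk g) ≫ c.ι.app _ from (hf (CostructuredArrow.mk g)).symm]
    rw [G.map_comp_assoc]
    exact congrArg (fun t => α.app q ≫ G.map (f (CostructuredArrow.mk g)) ≫ t) (hm _)

variable [Preadditive C] [Preadditive B]

/-- The extension of an additive functor is additive. -/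
theorem additive (h : Gen P) (G : C ⥤ B) [PreservesFilteredColimitsOfSize.{u, u} G]
    [(P.ι ⋙ G).Additive] : G.Additive := by
  refine ⟨fun {X Y} {a b} => ?_⟩
  obtain ⟨J, _, _, p, hp⟩ := h.exists_presentation X
  obtain ⟨K, _, _, q, hq⟩ := h.exists_presentation Y
  refine (isColimitOfPreserves G p.isColimit).hom_ext fun i => ?_
  show G.map (p.ι.app i) ≫ G.map (a + b) = G.map (p.ι.app i) ≫ (G.map a + G.map b)
  obtain ⟨j, a', ha⟩ := h.exists_lift q.isColimit (hp i) (p.ι.app i ≫ a)
  obtain ⟨j', b', hb⟩ := h.exists_lift q.isColimit (hp i) (p.ι.app i ≫ b)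
  let k := IsFiltered.max j j'
  let a'' := a' ≫ q.diag.map (IsFiltered.leftToMax j j')
  let b'' := b' ≫ q.diag.map (IsFiltered.rightToMax j j')
  have ha' : a'' ≫ q.ι.app k = p.ι.app i ≫ a :=
    (Category.assoc _ _ _).trans ((congrArg (a' ≫ ·) (q.w (IsFiltered.leftToMax j j'))).trans ha)
  have hb' : b'' ≫ q.ι.app k = p.ι.app i ≫ b :=
    (Category.assoc _ _ _).trans ((congrArg (b' ≫ ·) (q.w (IsFiltered.rightToMax j j'))).trans hb)
  have hadd : G.map (a'' + b'') = G.map a'' + G.map b'' :=
    (P.ι ⋙ G).map_add (f := (ObjectProperty.homMk a'' : (⟨_, hp i⟩ : P.FullSubcategory) ⟶ ⟨_, hq k⟩))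
      (g := ObjectProperty.homMk b'')
  have e1 : (a'' + b'') ≫ q.ι.app k = p.ι.app i ≫ (a + b) := by
    rw [Preadditive.add_comp, ha', hb', Preadditive.comp_add]
  have hl : G.map (p.ι.app i) ≫ G.map (a + b) = G.map (a'' + b'') ≫ G.map (q.ι.app k) :=
    (G.map_comp _ _).symm.trans ((congrArg G.map e1.symm).trans (G.map_comp _ _))
  have hla : G.map (p.ι.app i) ≫ G.map a = G.map a'' ≫ G.map (q.ι.app k) :=
    (G.map_comp _ _).symm.trans ((congrArg G.map ha'.symm).trans (G.map_comp _ _))
  have hlb : G.map (p.ι.app i) ≫ G.map b = G.map b'' ≫ G.map (q.ι.app k) :=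
    (G.map_comp _ _).symm.trans ((congrArg G.map hb'.symm).trans (G.map_comp _ _))
  refine hl.trans ((congrArg (· ≫ _) hadd).trans ((Preadditive.add_comp _ _ _ _ _ _).trans ?_))
  exact (congrArg₂ (· + ·) hla.symm hlb.symm).trans (Preadditive.comp_add _ _ _ _ _ _).symm

omit [Preadditive B] in
/-- A functor preserving finite and filtered colimits preserves coproducts. -/
theorem preservesCoproducts [HasFiniteCoproducts C] (G : C ⥤ B)
    [PreservesFilteredColimitsOfSize.{u, u} G] [PreservesFiniteCoproducts G] (ι : Type u)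
    [HasColimitsOfShape (Finset (Discrete ι)) C] :
    PreservesColimitsOfShape (Discrete ι) G := by
  classical
  haveI : ∀ f : ι → C, HasCoproduct f := fun f =>
    HasColimit.mk (CoproductsFromFiniteFiltered.liftToFinsetColimitCocone (Discrete.functor f))
  suffices key : ∀ f : ι → C, PreservesColimit (Discrete.functor f) G from
    ⟨fun {K} => preservesColimit_of_iso_diagram G (Discrete.natIsoFunctor (F := K)).symm⟩
  intro f
  refine preservesColimit_of_preserves_colimit_cocone (coproductIsCoproduct f) ?_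
  refine (isColimitMapCoconeCofanMkEquiv G f _).symm ?_
  haveI : PreservesColimitsOfShape (Finset (Discrete ι)) G :=
    PreservesFilteredColimitsOfSize.preserves_filtered_colimits _
  let hcol := isColimitOfPreserves G (CoproductsFromFiniteFiltered.isColimitFiniteSubproductsCocone f)
  have hS : ∀ S : Finset (Discrete ι), IsColimit (Cofan.mk (G.obj (∐ fun x : S => f x.1.as))
      fun x : S => G.map (Sigma.ι (fun x : S => f x.1.as) x)) := fun S =>
    isColimitMapCoconeCofanMkEquiv G _ _ (isColimitOfPreserves G (coproductIsCoproduct _))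
  let T : ∀ s : Cofan fun i => G.obj (f i),
      Cocone (CoproductsFromFiniteFiltered.liftToFinsetObj (Discrete.functor f) ⋙ G) := fun s =>
    { pt := s.pt
      ι :=
        { app := fun S => Cofan.IsColimit.desc (A := s.pt) (hS S) fun x => s.inj x.1.as
          naturality := fun S S' t => Cofan.IsColimit.hom_ext (hS S) _ _ fun x => by
            have e1 : Sigma.ι (fun x : S => f x.1.as) x ≫
                (CoproductsFromFiniteFiltered.liftToFinsetObj (Discrete.functor f)).map t =
                Sigma.ι (fun x : S' => f x.1.as) ⟨x.1, t.down.down x.2⟩ := Sigma.ι_desc _ _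
            refine Eq.trans ?_ ((congrArg (_ ≫ ·) (Category.comp_id _)).trans
              (Cofan.IsColimit.fac (hS S) _ x)).symm
            show G.map (Sigma.ι (fun x : S => f x.1.as) x) ≫ G.map _ ≫ _ = s.inj x.1.as
            rw [← G.map_comp_assoc, e1]
            exact Cofan.IsColimit.fac (hS S') _ _ } }
  refine Cofan.IsColimit.mk _ (fun s => hcol.desc (T s)) (fun s i => ?_) fun s m hm => ?_
  · have e1 : Sigma.ι (fun x : ({⟨i⟩} : Finset (Discrete ι)) => f x.1.as)
        ⟨⟨i⟩, Finset.mem_singleton_self _⟩ ≫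
          Sigma.desc (fun x : ({⟨i⟩} : Finset (Discrete ι)) => Sigma.ι f x.1.as) = Sigma.ι f i :=
      Sigma.ι_desc _ _
    show G.map (Sigma.ι f i) ≫ hcol.desc (T s) = s.inj i
    rw [← e1, G.map_comp, Category.assoc]
    refine (congrArg (_ ≫ ·) (hcol.fac (T s) {⟨i⟩})).trans ?_
    exact Cofan.IsColimit.fac (hS _) _ _
  · refine hcol.hom_ext fun S => ?_
    refine Cofan.IsColimit.hom_ext (hS S) _ _ fun x => ?_
    refine Eq.trans ?_ ((congrArg (_ ≫ ·) (hcol.fac (T s) S)).trans
      (Cofan.IsColimit.fac (hS S) _ x)).symm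
    show G.map (Sigma.ι (fun x : S => f x.1.as) x) ≫
      G.map (Sigma.desc fun x : S => Sigma.ι f x.1.as) ≫ m = s.inj x.1.as
    rw [← G.map_comp_assoc, Sigma.ι_desc]
    exact hm x.1.as

end Groth.Agent.Lib.CohDelta.IndExt
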