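import Groth.Agent.Lib.CohDelta.IndExt.Basic
import Mathlib.CategoryTheory.Limits.FunctorCategory.Basic
import Mathlib.CategoryTheory.Limits.Shapes.Kernels
import Mathlib.CategoryTheory.Preadditive.LeftExact

/-!
# Exactness of the extension along filtered colimits

A morphism between filtered colimits of objects in `P` is a filtered colimit of morphisms between
objects in `P`. Hence a functor preserving filtered colimits preserves cokernels as soon as it
preserves those of morphisms in `P`, and kernels likewise if filtered colimits commute with kernels.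
-/

set_option autoImplicit false
set_option linter.style.haveILetI false
set_option linter.unusedSectionVars false
universe u w v' u'

open CategoryTheory CategoryTheory.Limits Opposite

namespace Groth.Agent.Lib.CohDelta.IndExt

variable {C : Type w} [Category.{u} C] {P : ObjectProperty C} {X Y : C} {J K : Type u}
  [SmallCategory J] [SmallCategory K] (p : ColimitPresentation J X) (q : ColimitPresentation K Y)
  (f : X ⟶ Y)

/-- Compatibility of a morphism of stages with `f`. -/
def compat : ObjectProperty (Comma p.diag q.diag) := fun x =>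
  x.hom ≫ q.ι.app x.right = p.ι.app x.left ≫ f

/-- The category of stages of `f`. -/
abbrev Stage : Type u := (compat p q f).FullSubcategory

/-- The two indices of a stage, and the morphism between them as a natural transformation. -/
abbrev stageL : Stage p q f ⥤ J := (compat p q f).ι ⋙ Comma.fst p.diag q.diag

/-- The second index of a stage. -/
abbrev stageR : Stage p q f ⥤ K := (compat p q f).ι ⋙ Comma.snd p.diag q.diag

/-- The morphisms of the stages. -/
def stageHom : stageL p q f ⋙ p.diag ⟶ stageR p q f ⋙ q.diag where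
  app x := x.obj.hom
  naturality _ _ t := t.hom.w

variable (hp : ∀ j, P (p.diag.obj j)) [IsFiltered J] [IsFiltered K]
include hp

/-- Extend a stage to given larger indices. -/
theorem stage_extend (h : Gen P) (x : Stage p q f) {k : J} {r : K} (u : x.obj.left ⟶ k)
    (w : x.obj.right ⟶ r) :
    ∃ (l : K) (a : p.diag.obj k ⟶ q.diag.obj l) (s : r ⟶ l),
      a ≫ q.ι.app l = p.ι.app k ≫ f ∧ p.diag.map u ≫ a = x.obj.hom ≫ q.diag.map (w ≫ s) := by
  obtain ⟨j, a, ha⟩ := h.exists_lift q.isColimit (hp k) (p.ι.app k ≫ f)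
  have hq1 : q.diag.map (w ≫ IsFiltered.leftToMax r j) ≫ q.ι.app (IsFiltered.max r j) =
      q.ι.app x.obj.right := q.w _
  have hq2 : q.diag.map (IsFiltered.rightToMax r j) ≫ q.ι.app (IsFiltered.max r j) = q.ι.app j :=
    q.w _
  have hu : p.diag.map u ≫ p.ι.app k = p.ι.app x.obj.left := p.w _
  obtain ⟨l, t, ht⟩ := h.exists_eq q.isColimit (hp x.obj.left)
    (p.diag.map u ≫ a ≫ q.diag.map (IsFiltered.rightToMax r j))
    (x.obj.hom ≫ q.diag.map (w ≫ IsFiltered.leftToMax r j))
    (by
      show (p.diag.map u ≫ a ≫ q.diag.map _) ≫ q.ι.app _ = (x.obj.hom ≫ q.diag.map _) ≫ q.ι.app _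
      rw [Category.assoc, Category.assoc, Category.assoc, hq1, hq2,
        show a ≫ q.ι.app j = p.ι.app k ≫ f from ha, ← Category.assoc, hu]
      exact x.2.symm)
  refine ⟨l, a ≫ q.diag.map (IsFiltered.rightToMax r j ≫ t), IsFiltered.leftToMax r j ≫ t, ?_, ?_⟩
  · rw [Category.assoc, q.w]
    exact ha
  · simpa only [Functor.map_comp, Category.assoc] using ht

theorem isFiltered_stage (h : Gen P) : IsFiltered (Stage p q f) := by
  haveI : Nonempty (Stage p q f) := by
    let i : J := IsFiltered.nonempty.some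
    obtain ⟨j, a, ha⟩ := h.exists_lift q.isColimit (hp i) (p.ι.app i ≫ f)
    exact ⟨⟨{ left := i, right := j, hom := a }, ha⟩⟩
  haveI : IsFilteredOrEmpty (Stage p q f) := by
    refine ⟨fun x y => ?_, fun x y φ ψ => ?_⟩
    · let k := IsFiltered.max x.obj.left y.obj.left
      let r := IsFiltered.max x.obj.right y.obj.right
      let ux : x.obj.left ⟶ k := IsFiltered.leftToMax _ _
      let uy : y.obj.left ⟶ k := IsFiltered.rightToMax _ _
      let wy : y.obj.right ⟶ r := IsFiltered.rightToMax _ _
      obtain ⟨l, a, s, ha, hx⟩ := stage_extend p q f hp h x ux (IsFiltered.leftToMax _ _ : _ ⟶ r)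
      have hy : (p.diag.map uy ≫ a) ≫ q.ι.app l = (y.obj.hom ≫ q.diag.map (wy ≫ s)) ≫ q.ι.app l := by
        rw [Category.assoc, Category.assoc, ha, q.w, ← Category.assoc, p.w]
        exact y.2.symm
      obtain ⟨l', t, ht⟩ := h.exists_eq q.isColimit (hp y.obj.left) _ _ hy
      let z : Stage p q f :=
        ⟨{ left := k, right := l', hom := a ≫ q.diag.map t }, show (a ≫ q.diag.map t) ≫ q.ι.app l' = _ by
          rw [Category.assoc, q.w, ha]⟩
      refine ⟨z, ObjectProperty.homMk
        ({ left := ux, right := IsFiltered.leftToMax _ _ ≫ s ≫ t,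
           w := ?_ } : x.obj ⟶ z.obj),
        ObjectProperty.homMk ({ left := uy, right := wy ≫ s ≫ t, w := ?_ } : y.obj ⟶ z.obj), trivial⟩
      · show p.diag.map ux ≫ a ≫ q.diag.map t = _
        rw [← Category.assoc, hx]
        simp only [Functor.map_comp, Category.assoc]
      · show p.diag.map uy ≫ a ≫ q.diag.map t = _
        rw [← Category.assoc, ht]
        simp only [Functor.map_comp, Category.assoc]
    · let u := IsFiltered.coeqHom φ.hom.left ψ.hom.left
      let w := IsFiltered.coeqHom φ.hom.right ψ.hom.right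
      obtain ⟨l, a, s, ha, hy⟩ := stage_extend p q f hp h y u w
      let z : Stage p q f := ⟨{ left := _, right := l, hom := a }, ha⟩
      refine ⟨z, ObjectProperty.homMk ({ left := u, right := w ≫ s, w := hy } : y.obj ⟶ z.obj), ?_⟩
      apply ObjectProperty.hom_ext
      apply CommaMorphism.ext
      · exact IsFiltered.coeq_condition φ.hom.left ψ.hom.left
      · show φ.hom.right ≫ w ≫ s = ψ.hom.right ≫ w ≫ s
        rw [← Category.assoc, ← Category.assoc, IsFiltered.coeq_condition φ.hom.right ψ.hom.right]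
  exact {}

theorem final_stageL (h : Gen P) : (stageL p q f).Final := by
  haveI := isFiltered_stage p q f hp h
  rw [Functor.final_iff_of_isFiltered]
  refine ⟨fun d => ?_, fun {d c} s s' => ?_⟩
  · obtain ⟨j, a, ha⟩ := h.exists_lift q.isColimit (hp d) (p.ι.app d ≫ f)
    exact ⟨⟨{ left := d, right := j, hom := a }, ha⟩, ⟨𝟙 d⟩⟩
  · obtain ⟨l, a, t, ha, hy⟩ := stage_extend p q f hp h c (IsFiltered.coeqHom s s') (𝟙 c.obj.right)
    let z : Stage p q f := ⟨{ left := IsFiltered.coeq s s', right := l, hom := a }, ha⟩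
    exact ⟨z, ObjectProperty.homMk
      ({ left := IsFiltered.coeqHom s s', right := 𝟙 _ ≫ t, w := hy } : c.obj ⟶ z.obj),
      IsFiltered.coeq_condition s s'⟩

theorem final_stageR (h : Gen P) : (stageR p q f).Final := by
  haveI := isFiltered_stage p q f hp h
  rw [Functor.final_iff_of_isFiltered]
  refine ⟨fun d => ?_, fun {d c} s s' => ?_⟩
  · let x : Stage p q f := IsFiltered.nonempty.some
    obtain ⟨l, a, t, ha, -⟩ :=
      stage_extend p q f hp h x (𝟙 _) (IsFiltered.leftToMax x.obj.right d)
    exact ⟨⟨{ left := _, right := l, hom := a }, ha⟩, ⟨IsFiltered.rightToMax x.obj.right d ≫ t⟩⟩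
  · obtain ⟨l, a, t, ha, hy⟩ := stage_extend p q f hp h c (𝟙 c.obj.left) (IsFiltered.coeqHom s s')
    let z : Stage p q f := ⟨{ left := c.obj.left, right := l, hom := a }, ha⟩
    refine ⟨z, ObjectProperty.homMk
      ({ left := 𝟙 _, right := IsFiltered.coeqHom s s' ≫ t, w := hy } : c.obj ⟶ z.obj), ?_⟩
    show s ≫ IsFiltered.coeqHom s s' ≫ t = s' ≫ IsFiltered.coeqHom s s' ≫ t
    rw [← Category.assoc, ← Category.assoc, IsFiltered.coeq_condition]

variable {B : Type u'} [Category.{v'} B]

omit hp [IsFiltered J] [IsFiltered K]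

/-- Cokernels are preserved as soon as this holds between objects in `P`. -/
theorem preservesCokernel [HasZeroMorphisms C] [HasCokernels C] [HasZeroMorphisms B]
    (h : Gen P) (G : C ⥤ B) [PreservesFilteredColimitsOfSize.{u, u} G] [G.PreservesZeroMorphisms]
    (hG : ∀ {M N : C} (a : M ⟶ N), P M → P N → PreservesColimit (parallelPair a 0) G) :
    PreservesColimit (parallelPair f 0) G := by
  obtain ⟨J, _, _, p, hp⟩ := h.exists_presentation X
  obtain ⟨K, _, _, q, hq⟩ := h.exists_presentation Y
  haveI := isFiltered_stage p q f hp h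
  haveI := final_stageL p q f hp h
  haveI := final_stageR p q f hp h
  let η := stageHom p q f
  let hL := (Functor.Final.isColimitWhiskerEquiv (stageL p q f) p.cocone).symm p.isColimit
  let hR := (Functor.Final.isColimitWhiskerEquiv (stageR p q f) q.cocone).symm q.isColimit
  let D : Stage p q f ⥤ C :=
    { obj := fun x => cokernel (η.app x)
      map := fun {x y} t => cokernel.map _ _ _ _ (η.naturality t).symm
      map_id := fun x => by
        refine (cancel_epi (cokernel.π (η.app x))).mp ?_
        rw [cokernel.π_desc]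
        show q.diag.map (𝟙 x.obj.right) ≫ _ = _
        rw [q.diag.map_id, Category.id_comp, Category.comp_id]
      map_comp := fun {x y z} _ _ => by
        refine (cancel_epi (cokernel.π (η.app x))).mp ?_
        simp }
  have hQ : ∀ x, η.app x ≫ q.ι.app x.obj.right ≫ cokernel.π f = 0 := fun x => by
    show x.obj.hom ≫ q.ι.app x.obj.right ≫ cokernel.π f = 0
    rw [← Category.assoc, x.2, Category.assoc, cokernel.condition, comp_zero]
  let cQ : Cocone D :=
    { pt := cokernel f
      ι :=
        { app := fun x => cokernel.desc _ _ (hQ x)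
          naturality := fun x y t => by
            refine (cancel_epi (cokernel.π (η.app x))).mp ?_
            show cokernel.π (η.app x) ≫ cokernel.map (η.app x) (η.app y) ((stageL p q f ⋙ p.diag).map t) ((stageR p q f ⋙ q.diag).map t) (η.naturality t).symm ≫ cokernel.desc _ _ (hQ y) =
              cokernel.π (η.app x) ≫ cokernel.desc _ _ (hQ x) ≫ 𝟙 _
            rw [cokernel.π_desc_assoc, Category.assoc, cokernel.π_desc, Category.comp_id,
              cokernel.π_desc, ← Category.assoc]
            exact congrArg (· ≫ cokernel.π f) (q.w t.hom.right) } }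
  let S : ∀ _ : Cocone D, Cocone (stageR p q f ⋙ q.diag) := fun s =>
    { pt := s.pt
      ι :=
        { app := fun x => cokernel.π (η.app x) ≫ s.ι.app x
          naturality := fun x y t => by
            show (stageR p q f ⋙ q.diag).map t ≫ cokernel.π (η.app y) ≫ s.ι.app y =
              (cokernel.π (η.app x) ≫ s.ι.app x) ≫ 𝟙 _
            rw [Category.comp_id, ← Category.assoc]
            exact ((congrArg (· ≫ s.ι.app y) (cokernel.π_desc _ _ _)).symm.trans
              (Category.assoc _ _ _)).trans (congrArg (cokernel.π (η.app x) ≫ ·) (s.w t)) } }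
  have hSf : ∀ s, f ≫ hR.desc (S s) = 0 := fun s => hL.hom_ext fun x => by
    show p.ι.app x.obj.left ≫ f ≫ hR.desc (S s) = p.ι.app x.obj.left ≫ 0
    rw [comp_zero, ← Category.assoc, ← x.2, Category.assoc]
    refine (congrArg (x.obj.hom ≫ ·) (hR.fac (S s) x)).trans ?_
    show η.app x ≫ cokernel.π (η.app x) ≫ s.ι.app x = 0
    rw [cokernel.condition_assoc, zero_comp]
  have hcQ : IsColimit cQ :=
    { desc := fun s => cokernel.desc f (hR.desc (S s)) (hSf s)
      fac := fun s x => by
        refine (cancel_epi (cokernel.π (η.app x))).mp ?_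
        show cokernel.π (η.app x) ≫ cokernel.desc _ _ (hQ x) ≫ cokernel.desc f _ _ = _
        rw [cokernel.π_desc_assoc, Category.assoc, cokernel.π_desc]
        exact hR.fac (S s) x
      uniq := fun s m hm => by
        refine (cancel_epi (cokernel.π f)).mp (hR.hom_ext fun x => ?_)
        show q.ι.app x.obj.right ≫ cokernel.π f ≫ m = q.ι.app x.obj.right ≫ cokernel.π f ≫ _
        rw [cokernel.π_desc]
        refine Eq.trans ?_ (hR.fac (S s) x).symm
        show _ = cokernel.π (η.app x) ≫ s.ι.app x
        rw [← hm x]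
        show _ = cokernel.π (η.app x) ≫ cokernel.desc _ _ (hQ x) ≫ m
        rw [cokernel.π_desc_assoc, Category.assoc] }
  let hGQ := isColimitOfPreserves G hcQ
  let hGR := isColimitOfPreserves G hR
  let hGL := isColimitOfPreserves G hL
  haveI : ∀ x, PreservesColimit (parallelPair (η.app x) 0) G := fun x =>
    hG (η.app x) (hp _) (hq _)
  let hGc : ∀ x, IsColimit (CokernelCofork.map (CokernelCofork.ofπ (cokernel.π (η.app x))
      (cokernel.condition _)) G) :=
    fun x => CokernelCofork.mapIsColimit _ (cokernelIsCokernel (η.app x)) G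
  refine preservesColimit_of_preserves_colimit_cocone (cokernelIsCokernel f)
    ((CokernelCofork.isColimitMapCoconeEquiv _ G).symm ?_)
  have hx : ∀ {T : B} (g : G.obj Y ⟶ T), G.map f ≫ g = 0 → ∀ x,
      G.map (η.app x) ≫ G.map (q.ι.app x.obj.right) ≫ g = 0 := fun g hg x => by
    rw [← G.map_comp_assoc]
    show G.map (x.obj.hom ≫ q.ι.app x.obj.right) ≫ g = 0
    rw [x.2, G.map_comp, Category.assoc, hg, comp_zero]
  haveI : Epi (G.map (cokernel.π f)) := by
    refine ⟨fun {T} m m' e => hGQ.hom_ext fun x => ?_⟩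
    refine Cofork.IsColimit.hom_ext (hGc x) ?_
    show G.map (cokernel.π (η.app x)) ≫ G.map (cokernel.desc _ _ (hQ x)) ≫ m =
      G.map (cokernel.π (η.app x)) ≫ G.map (cokernel.desc _ _ (hQ x)) ≫ m'
    rw [← G.map_comp_assoc, ← G.map_comp_assoc, cokernel.π_desc, G.map_comp, Category.assoc,
      Category.assoc, e]
  exact CokernelCofork.IsColimit.ofπ' (G.map (cokernel.π f))
    (by rw [← G.map_comp, cokernel.condition, G.map_zero]) fun {T} g hg => by
    let l := fun x => CokernelCofork.IsColimit.desc' (hGc x) (G.map (q.ι.app x.obj.right) ≫ g)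
      (hx g hg x)
    let cT : Cocone (D ⋙ G) :=
      { pt := T
        ι :=
          { app := fun x => (l x).1
            naturality := fun x y t => by
              refine Cofork.IsColimit.hom_ext (hGc x) ?_
              show G.map (cokernel.π (η.app x)) ≫ G.map (cokernel.map (η.app x) (η.app y) ((stageL p q f ⋙ p.diag).map t) ((stageR p q f ⋙ q.diag).map t) (η.naturality t).symm) ≫ (l y).1 =
                G.map (cokernel.π (η.app x)) ≫ (l x).1 ≫ 𝟙 _
              rw [Category.comp_id, ← G.map_comp_assoc, cokernel.π_desc, G.map_comp, Category.assoc]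
              refine (congrArg (_ ≫ ·) (l y).2).trans (Eq.trans ?_ (l x).2.symm)
              rw [← G.map_comp_assoc]
              exact congrArg (fun z => G.map z ≫ g) (q.w t.hom.right) } }
    refine ⟨hGQ.desc cT, hGR.hom_ext fun x => ?_⟩
    show G.map (q.ι.app x.obj.right) ≫ G.map (cokernel.π f) ≫ hGQ.desc cT =
      G.map (q.ι.app x.obj.right) ≫ g
    refine Eq.trans ?_ (l x).2
    show _ = G.map (cokernel.π (η.app x)) ≫ (l x).1
    rw [← G.map_comp_assoc, ← cokernel.π_desc (η.app x) _ (hQ x), G.map_comp, Category.assoc]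
    exact congrArg (_ ≫ ·) (hGQ.fac cT x)

/-- A kernel, stated without chosen limits. -/
def IsKer {D : Type*} [Category D] [HasZeroMorphisms D] {K A A' : D} (i : K ⟶ A) (φ : A ⟶ A') :
    Prop :=
  i ≫ φ = 0 ∧ ∀ (T : D) (g : T ⟶ A), g ≫ φ = 0 → ∃! l : T ⟶ K, l ≫ i = g

theorem isKer_of_isLimit {D : Type*} [Category D] [HasZeroMorphisms D] {A A' : D} {φ : A ⟶ A'}
    (c : KernelFork φ) (hc : IsLimit c) : IsKer (Fork.ι c) φ :=
  ⟨c.condition, fun _ g hg => ⟨(KernelFork.IsLimit.lift' hc g hg).1,
    (KernelFork.IsLimit.lift' hc g hg).2,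
    fun _ hl => Fork.IsLimit.hom_ext hc (hl.trans (KernelFork.IsLimit.lift' hc g hg).2.symm)⟩⟩

theorem IsKer.of_iso {D : Type*} [Category D] [HasZeroMorphisms D] {K A A' K₁ A₁ A₁' : D}
    {i : K ⟶ A} {φ : A ⟶ A'} (h : IsKer i φ) {i₁ : K₁ ⟶ A₁} {φ₁ : A₁ ⟶ A₁'}
    (a : K ≅ K₁) (b : A ≅ A₁) (c : A' ≅ A₁') (h₁ : i ≫ b.hom = a.hom ≫ i₁)
    (h₂ : φ ≫ c.hom = b.hom ≫ φ₁) : IsKer i₁ φ₁ := by
  have e1 : i₁ = a.inv ≫ i ≫ b.hom := by rw [h₁, a.inv_hom_id_assoc]
  have e2 : φ₁ = b.inv ≫ φ ≫ c.hom := by rw [h₂, b.inv_hom_id_assoc]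
  refine ⟨?_, fun T g hg => ?_⟩
  · rw [e1, e2]
    simp [reassoc_of% h.1]
  · have hg' : (g ≫ b.inv) ≫ φ = 0 := by
      rw [← cancel_mono c.hom, Category.assoc, Category.assoc, ← e2, hg, zero_comp]
    obtain ⟨l, hl, hu⟩ := h.2 T _ hg'
    refine ⟨l ≫ a.hom, ?_, fun m hm => ?_⟩
    · show (l ≫ a.hom) ≫ i₁ = g
      rw [Category.assoc, ← h₁, ← Category.assoc, show l ≫ i = g ≫ b.inv from hl]
      simp
    · rw [← hu (m ≫ a.inv) (by show (m ≫ a.inv) ≫ i = g ≫ b.inv; rw [← hm, e1]; simp)]
      simp

/-- A kernel in the sense of `IsKer` as a limit fork. -/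
noncomputable def IsKer.isLimit {D : Type*} [Category D] [HasZeroMorphisms D] {K A A' : D}
    {i : K ⟶ A} {φ : A ⟶ A'} (h : IsKer i φ) : IsLimit (KernelFork.ofι i h.1) :=
  KernelFork.IsLimit.ofι i h.1 (fun g hg => (h.2 _ g hg).exists.choose)
    (fun g hg => (h.2 _ g hg).exists.choose_spec)
    (fun g hg m hm => (h.2 _ g hg).unique hm (h.2 _ g hg).exists.choose_spec)

/-- A pointwise kernel of natural transformations is a kernel after taking colimits. -/
theorem isKer_colimit {D : Type*} [Category D] [HasZeroMorphisms D] {I : Type u} [SmallCategory I]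
    [HasColimitsOfShape I D] [HasKernels D]
    [PreservesLimitsOfShape WalkingParallelPair (colim : (I ⥤ D) ⥤ D)]
    [(colim : (I ⥤ D) ⥤ D).PreservesZeroMorphisms]
    {Kf M N : I ⥤ D} (i : Kf ⟶ M) (η : M ⟶ N) (h : ∀ x, IsKer (i.app x) (η.app x))
    {cK : Cocone Kf} {cM : Cocone M} {cN : Cocone N} (hK : IsColimit cK) (hM : IsColimit cM)
    (hN : IsColimit cN) {i' : cK.pt ⟶ cM.pt} {η' : cM.pt ⟶ cN.pt}
    (hi : ∀ x, cK.ι.app x ≫ i' = i.app x ≫ cM.ι.app x)
    (hη : ∀ x, cM.ι.app x ≫ η' = η.app x ≫ cN.ι.app x) : IsKer i' η' := by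
  have w : i ≫ η = 0 := NatTrans.ext (funext fun x => (h x).1)
  have hlim : IsLimit (KernelFork.ofι i w) := evaluationJointlyReflectsLimits _ fun x =>
    (KernelFork.isLimitMapConeEquiv _ ((evaluation I D).obj x)).symm (h x).isLimit
  have h1 : IsKer (colim.map i) (colim.map η) :=
    isKer_of_isLimit _ (KernelFork.mapIsLimit _ hlim colim)
  refine h1.of_iso ((colimit.isColimit Kf).coconePointUniqueUpToIso hK)
    ((colimit.isColimit M).coconePointUniqueUpToIso hM)
    ((colimit.isColimit N).coconePointUniqueUpToIso hN) ?_ ?_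
  · refine colimit.hom_ext fun x => ?_
    show colimit.ι Kf x ≫ colimMap i ≫ _ = colimit.ι Kf x ≫ _ ≫ i'
    rw [ι_colimMap_assoc]
    refine (congrArg (i.app x ≫ ·) (colimit.isColimit M |>.comp_coconePointUniqueUpToIso_hom hM x)).trans ?_
    exact (hi x).symm.trans ((congrArg (· ≫ i')
      ((colimit.isColimit Kf).comp_coconePointUniqueUpToIso_hom hK x)).symm.trans (Category.assoc _ _ _))
  · refine colimit.hom_ext fun x => ?_
    show colimit.ι M x ≫ colimMap η ≫ _ = colimit.ι M x ≫ _ ≫ η'
    rw [ι_colimMap_assoc]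
    refine (congrArg (η.app x ≫ ·) (colimit.isColimit N |>.comp_coconePointUniqueUpToIso_hom hN x)).trans ?_
    exact (hη x).symm.trans ((congrArg (· ≫ η')
      ((colimit.isColimit M).comp_coconePointUniqueUpToIso_hom hM x)).symm.trans (Category.assoc _ _ _))

/-- Kernels are preserved as soon as this holds between objects in `P`, if filtered colimits commute
with kernels. -/
theorem preservesKernel [HasZeroMorphisms C] [HasKernels C] [HasFilteredColimitsOfSize.{u, u} C]
    [HasZeroMorphisms B] [HasKernels B] [HasFilteredColimitsOfSize.{u, u} B]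
    (hC : ∀ (I : Type u) [SmallCategory I] [IsFiltered I],
      PreservesLimitsOfShape WalkingParallelPair (colim : (I ⥤ C) ⥤ C))
    (hB : ∀ (I : Type u) [SmallCategory I] [IsFiltered I],
      PreservesLimitsOfShape WalkingParallelPair (colim : (I ⥤ B) ⥤ B))
    (h : Gen P) (G : C ⥤ B) [PreservesFilteredColimitsOfSize.{u, u} G] [G.PreservesZeroMorphisms]
    (hG : ∀ {M N : C} (a : M ⟶ N), P M → P N → PreservesLimit (parallelPair a 0) G) :
    PreservesLimit (parallelPair f 0) G := by
  obtain ⟨J, _, _, p, hp⟩ := h.exists_presentation X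
  obtain ⟨K, _, _, q, hq⟩ := h.exists_presentation Y
  haveI := isFiltered_stage p q f hp h
  haveI := final_stageL p q f hp h
  haveI := final_stageR p q f hp h
  haveI := hC (Stage p q f)
  haveI := hB (Stage p q f)
  let η := stageHom p q f
  let hL := (Functor.Final.isColimitWhiskerEquiv (stageL p q f) p.cocone).symm p.isColimit
  let hR := (Functor.Final.isColimitWhiskerEquiv (stageR p q f) q.cocone).symm q.isColimit
  let D : Stage p q f ⥤ C :=
    { obj := fun x => kernel (η.app x)
      map := fun {x y} t => kernel.map _ _ _ _ (η.naturality t).symm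
      map_id := fun x => by
        refine (cancel_mono (kernel.ι (η.app x))).mp ?_
        rw [kernel.lift_ι]
        show _ ≫ p.diag.map (𝟙 x.obj.left) = _
        rw [p.diag.map_id, Category.id_comp, Category.comp_id]
      map_comp := fun {x y z} _ _ => by
        refine (cancel_mono (kernel.ι (η.app z))).mp ?_
        simp }
  let i : D ⟶ stageL p q f ⋙ p.diag :=
    { app := fun x => kernel.ι (η.app x)
      naturality := fun x y t => kernel.lift_ι _ _ _ }
  haveI : (colim : (Stage p q f ⥤ C) ⥤ C).PreservesZeroMorphisms :=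
    ⟨fun M N => colimit.hom_ext fun x => by simp⟩
  haveI : (colim : (Stage p q f ⥤ B) ⥤ B).PreservesZeroMorphisms :=
    ⟨fun M N => colimit.hom_ext fun x => by simp⟩
  let cL := p.cocone.whisker (stageL p q f)
  let s : Cocone D := (Cocone.precompose i).obj cL
  let cD := colimit.cocone D
  let κ : cD.pt ⟶ X := colimit.desc D s
  have hκ : ∀ x, cD.ι.app x ≫ κ = i.app x ≫ cL.ι.app x := fun x => colimit.ι_desc s x
  have hf : ∀ x, cL.ι.app x ≫ f = η.app x ≫ (q.cocone.whisker (stageR p q f)).ι.app x :=
    fun x => x.2.symm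
  have kC : IsKer κ f := isKer_colimit i η
    (fun x => isKer_of_isLimit (KernelFork.ofι _ (kernel.condition (η.app x))) (kernelIsKernel (η.app x))) (colimit.isColimit D) hL hR hκ hf
  refine preservesLimit_of_preserves_limit_cone kC.isLimit
    ((KernelFork.isLimitMapConeEquiv _ G).symm ?_)
  have kB : IsKer (G.map κ) (G.map f) := isKer_colimit (Functor.whiskerRight i G) (Functor.whiskerRight η G)
    (fun x => haveI := hG (η.app x) (hp _) (hq _)
      isKer_of_isLimit _ (KernelFork.mapIsLimit (KernelFork.ofι _ (kernel.condition (η.app x))) (kernelIsKernel (η.app x)) G))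
    (isColimitOfPreserves G (colimit.isColimit D)) (isColimitOfPreserves G hL)
    (isColimitOfPreserves G hR)
    (fun x => (G.map_comp _ _).symm.trans ((congrArg G.map (hκ x)).trans (G.map_comp _ _)))
    (fun x => (G.map_comp _ _).symm.trans ((congrArg G.map (hf x)).trans (G.map_comp _ _)))
  exact kB.isLimit

end Groth.Agent.Lib.CohDelta.IndExt
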