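import Groth.Agent.Lib.CohDelta.IndExt.Module
import Groth.Agent.S6366
import Mathlib.CategoryTheory.ObjectProperty.ContainsZero
import Mathlib.CategoryTheory.Preadditive.Biproducts
import Mathlib.Algebra.Category.ModuleCat.Biproducts

/-!
# Exactness of functors on modules from exactness on finitely presented modules
-/

set_option autoImplicit false
set_option linter.style.haveILetI false
universe u v' u'

open CategoryTheory CategoryTheory.Limits

namespace Groth.Agent.Lib.CohDelta.IndExt

variable {A : Type u} [CommRing A]

instance : (fpMod A).ContainsZero :=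
  ⟨⟨ModuleCat.of A PUnit, ModuleCat.isZero_of_subsingleton _,
    (inferInstance : Module.FinitePresentation A PUnit)⟩⟩

instance : HasBinaryBiproducts (fpMod A).FullSubcategory := ⟨fun M N => by
  haveI : Module.FinitePresentation A M.obj := M.2
  haveI : Module.FinitePresentation A N.obj := N.2
  haveI : Module.FinitePresentation A (M.obj × N.obj) := inferInstance
  let Z : (fpMod A).FullSubcategory := ⟨ModuleCat.of A (M.obj × N.obj), this⟩
  let b : BinaryBicone M N :=
    { pt := Z
      fst := ObjectProperty.homMk (ModuleCat.ofHom (LinearMap.fst A M.obj N.obj))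
      snd := ObjectProperty.homMk (ModuleCat.ofHom (LinearMap.snd A M.obj N.obj))
      inl := ObjectProperty.homMk (ModuleCat.ofHom (LinearMap.inl A M.obj N.obj))
      inr := ObjectProperty.homMk (ModuleCat.ofHom (LinearMap.inr A M.obj N.obj))
      inl_fst := by apply ObjectProperty.hom_ext; apply ModuleCat.hom_ext; ext x; rfl
      inl_snd := by apply ObjectProperty.hom_ext; apply ModuleCat.hom_ext; ext x; rfl
      inr_fst := by apply ObjectProperty.hom_ext; apply ModuleCat.hom_ext; ext x; rfl
      inr_snd := by apply ObjectProperty.hom_ext; apply ModuleCat.hom_ext; ext x; rfl }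
  refine HasBinaryBiproduct.mk ⟨b, isBinaryBilimitOfTotal b ?_⟩
  apply ObjectProperty.hom_ext
  apply ModuleCat.hom_ext
  refine LinearMap.ext fun z => ?_
  show ((z.1, (0 : N.obj)) + ((0 : M.obj), z.2) : M.obj × N.obj) = z
  simp⟩

theorem fp_cokernel {M N : ModuleCat.{u} A} (a : M ⟶ N) (hM : fpMod A M) (hN : fpMod A N) :
    fpMod A (cokernel a) := by
  haveI : Module.FinitePresentation A M := hM
  haveI : Module.FinitePresentation A N := hN
  haveI : Module.FinitePresentation A (N ⧸ LinearMap.range a.hom) :=
    Module.finitePresentation_of_surjective (LinearMap.range a.hom).mkQ (Submodule.mkQ_surjective _)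
      (by rw [Submodule.ker_mkQ]; exact Module.Finite.iff_fg.mp (Module.Finite.range a.hom))
  exact Module.FinitePresentation.of_equiv (ModuleCat.cokernelIsoRangeQuotient a).symm.toLinearEquiv

theorem fp_kernel (hcoh : ∀ I : Ideal A, I.FG → Module.FinitePresentation A I)
    {M N : ModuleCat.{u} A} (a : M ⟶ N) (hM : fpMod A M) (hN : fpMod A N) : fpMod A (kernel a) := by
  haveI : Module.FinitePresentation A M := hM
  haveI : Module.FinitePresentation A (LinearMap.range a.hom) :=
    ((Groth.Agent.S6366.result A hcoh N).mpr hN).2 _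
      (Module.Finite.iff_fg.mp (Module.Finite.range a.hom))
  haveI : Module.FinitePresentation A (LinearMap.ker a.hom) :=
    ((Groth.Agent.S6366.result A hcoh M).mpr hM).2 _ (by
      rw [← LinearMap.ker_rangeRestrict]
      exact Module.FinitePresentation.fg_ker _ a.hom.surjective_rangeRestrict)
  exact Module.FinitePresentation.of_equiv (ModuleCat.kernelIsoKer a).symm.toLinearEquiv

variable {B : Type u'} [Category.{v'} B] [Preadditive B] [HasFiniteBiproducts B]
  (G : ModuleCat.{u} A ⥤ B) [PreservesFilteredColimitsOfSize.{u, u} G]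

omit [HasFiniteBiproducts B] in
theorem preservesCoproducts_of_additive [G.Additive] (J : Type u) :
    PreservesColimitsOfShape (Discrete J) G := by
  haveI : PreservesFiniteCoproducts G :=
    ⟨fun n => preservesCoproductsOfShape_of_preservesBiproductsOfShape G⟩
  exact preservesCoproducts G J

theorem additive_of_rightExact [PreservesFiniteColimits ((fpMod A).ι ⋙ G)] : G.Additive := by
  haveI : HasZeroObject B := inferInstance
  haveI : ((fpMod A).ι ⋙ G).PreservesZeroMorphisms :=
    Functor.preservesZeroMorphisms_of_preserves_initial_object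
  haveI : PreservesBinaryBiproducts ((fpMod A).ι ⋙ G) :=
    preservesBinaryBiproducts_of_preservesBinaryCoproducts _
  haveI : ((fpMod A).ι ⋙ G).Additive := Functor.additive_of_preservesBinaryBiproducts _
  exact additive (gen_fpMod A) G

theorem additive_of_leftExact [PreservesFiniteLimits ((fpMod A).ι ⋙ G)] : G.Additive := by
  haveI : HasZeroObject B := inferInstance
  haveI : ((fpMod A).ι ⋙ G).PreservesZeroMorphisms :=
    Functor.preservesZeroMorphisms_of_preserves_terminal_object
  haveI : PreservesBinaryBiproducts ((fpMod A).ι ⋙ G) :=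
    preservesBinaryBiproducts_of_preservesBinaryProducts _
  haveI : ((fpMod A).ι ⋙ G).Additive := Functor.additive_of_preservesBinaryBiproducts _
  exact additive (gen_fpMod A) G

theorem preservesFiniteColimits [PreservesFiniteColimits ((fpMod A).ι ⋙ G)] :
    PreservesFiniteColimits G := by
  haveI := additive_of_rightExact G
  haveI : ∀ {X Y : ModuleCat.{u} A} (f : X ⟶ Y), PreservesColimit (parallelPair f 0) G := by
    intro X Y f
    refine preservesCokernel f (gen_fpMod A) G fun {M N} a hM hN => ?_
    let a' : (⟨M, hM⟩ : (fpMod A).FullSubcategory) ⟶ ⟨N, hN⟩ := ObjectProperty.homMk a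
    let π' : (⟨N, hN⟩ : (fpMod A).FullSubcategory) ⟶ ⟨cokernel a, fp_cokernel a hM hN⟩ :=
      ObjectProperty.homMk (cokernel.π a)
    let c := CokernelCofork.ofπ (f := a') π' (ObjectProperty.hom_ext _ (cokernel.condition a))
    have hc : IsColimit c := isColimitOfReflects (fpMod A).ι
      ((CokernelCofork.isColimitMapCoconeEquiv c _).symm (cokernelIsCokernel a))
    exact preservesColimit_of_preserves_colimit_cocone (cokernelIsCokernel a)
      ((CokernelCofork.isColimitMapCoconeEquiv _ G).symm
        (CokernelCofork.mapIsColimit c hc ((fpMod A).ι ⋙ G)))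
  exact G.preservesFiniteColimits_of_preservesCokernels

theorem preservesFiniteLimits (hcoh : ∀ I : Ideal A, I.FG → Module.FinitePresentation A I)
    [HasKernels B] [HasFilteredColimitsOfSize.{u, u} B]
    (hcomm : ∀ (J : Type u) [SmallCategory J] [IsFiltered J],
      PreservesLimitsOfShape WalkingParallelPair (colim : (J ⥤ B) ⥤ B))
    [PreservesFiniteLimits ((fpMod A).ι ⋙ G)] : PreservesFiniteLimits G := by
  haveI := additive_of_leftExact G
  haveI : ∀ {X Y : ModuleCat.{u} A} (f : X ⟶ Y), PreservesLimit (parallelPair f 0) G := by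
    intro X Y f
    refine preservesKernel f (fun I _ _ => inferInstance) hcomm (gen_fpMod A) G fun {M N} a hM hN => ?_
    let a' : (⟨M, hM⟩ : (fpMod A).FullSubcategory) ⟶ ⟨N, hN⟩ := ObjectProperty.homMk a
    let i' : (⟨kernel a, fp_kernel hcoh a hM hN⟩ : (fpMod A).FullSubcategory) ⟶ ⟨M, hM⟩ :=
      ObjectProperty.homMk (kernel.ι a)
    let c := KernelFork.ofι (f := a') i' (ObjectProperty.hom_ext _ (kernel.condition a))
    have hc : IsLimit c := isLimitOfReflects (fpMod A).ι
      ((KernelFork.isLimitMapConeEquiv c _).symm (kernelIsKernel a))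
    exact preservesLimit_of_preserves_limit_cone (kernelIsKernel a)
      ((KernelFork.isLimitMapConeEquiv _ G).symm
        (KernelFork.mapIsLimit c hc ((fpMod A).ι ⋙ G)))
  exact G.preservesFiniteLimits_of_preservesKernels

end Groth.Agent.Lib.CohDelta.IndExt
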