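import Groth.Agent.Lib.CohDelta.IndExt.Exact
import Mathlib.Algebra.Category.ModuleCat.FilteredColimits
import Mathlib.Algebra.Category.ModuleCat.Colimits
import Mathlib.Algebra.Category.ModuleCat.Kernels
import Mathlib.Algebra.Category.ModuleCat.Products
import Mathlib.Algebra.Category.ModuleCat.Abelian
import Mathlib.Algebra.Module.FinitePresentation
import Mathlib.CategoryTheory.Limits.ConcreteCategory.Basic
import Mathlib.CategoryTheory.Limits.FilteredColimitCommutesFiniteLimit

/-!
# Modules are filtered colimits of finitely presented modules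
-/

set_option autoImplicit false
set_option linter.style.haveILetI false
universe u

open CategoryTheory CategoryTheory.Limits

namespace Groth.Agent.Lib.CohDelta.IndExt

variable (A : Type u) [CommRing A]

/-- Finitely presented modules. -/
abbrev fpMod : ObjectProperty (ModuleCat.{u} A) := fun M => Module.FinitePresentation A M

theorem presentable_fpMod (M : ModuleCat.{u} A) (hM : fpMod A M) : IsFinitelyPresentable.{u} M := by
  rw [isFinitelyPresentable_iff_preservesFilteredColimitsOfSize]
  refine ⟨fun J _ _ => ⟨fun {D} => ⟨fun {c} hc => ?_⟩⟩⟩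
  haveI : Module.FinitePresentation A M := hM
  have rep := Concrete.isColimit_exists_rep D hc
  have req : ∀ {i j : J} (x : D.obj i) (y : D.obj j), (c.ι.app i).hom x = (c.ι.app j).hom y →
      ∃ (k : J) (a : i ⟶ k) (b : j ⟶ k), (D.map a).hom x = (D.map b).hom y := fun x y e =>
    (Concrete.isColimit_rep_eq_iff_exists D hc x y).mp e
  have stage : ∀ {i : J} (s : Finset (D.obj i)), (∀ x ∈ s, (c.ι.app i).hom x = 0) →
      ∃ (k : J) (a : i ⟶ k), ∀ x ∈ s, (D.map a).hom x = 0 := by
    classical
    intro i s
    induction s using Finset.induction_on with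
    | empty => exact fun _ => ⟨i, 𝟙 i, by simp⟩
    | insert x s _ ih =>
      intro hs
      obtain ⟨k, a, ha⟩ := ih fun y hy => hs y (Finset.mem_insert_of_mem hy)
      obtain ⟨l, b, b', hb⟩ := req x (0 : D.obj i)
        ((hs x (Finset.mem_insert_self _ _)).trans (map_zero _).symm)
      rw [map_zero] at hb
      obtain ⟨m, t, t', hm⟩ : ∃ (m : J) (t : k ⟶ m) (t' : l ⟶ m), a ≫ t = b ≫ t' :=
        ⟨_, IsFiltered.leftToMax k l ≫ IsFiltered.coeqHom (a ≫ IsFiltered.leftToMax k l)
            (b ≫ IsFiltered.rightToMax k l), IsFiltered.rightToMax k l ≫ IsFiltered.coeqHom _ _,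
          by rw [← Category.assoc, IsFiltered.coeq_condition, Category.assoc]⟩
      refine ⟨m, a ≫ t, fun y hy => ?_⟩
      rcases Finset.mem_insert.mp hy with rfl | hy
      · rw [hm, D.map_comp]
        show (D.map t').hom ((D.map b).hom _) = 0
        rw [hb, map_zero]
      · rw [D.map_comp]
        show (D.map t).hom ((D.map a).hom y) = 0
        rw [ha y hy, map_zero]
  obtain ⟨n, π, hπ⟩ := Module.Finite.exists_fin' A M
  obtain ⟨R, hR⟩ := Module.FinitePresentation.fg_ker π hπ
  refine ⟨Types.FilteredColimit.isColimitOf _ _ (fun g => ?_) fun i j f f' e => ?_⟩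
  · classical
    choose j x hx using fun k : Fin n => rep (g.hom (π (Pi.single k 1)))
    obtain ⟨m, hm⟩ := IsFiltered.sup_objs_exists (Finset.univ.image j)
    let t : ∀ k, j k ⟶ m := fun k => (hm (Finset.mem_image_of_mem j (Finset.mem_univ k))).some
    let ψ : (Fin n → A) →ₗ[A] D.obj m :=
      Fintype.linearCombination A fun k => (D.map (t k)).hom (x k)
    have hψ : (c.ι.app m).hom.comp ψ = g.hom.comp π := (Pi.basisFun A (Fin n)).ext fun k => by
      rw [Pi.basisFun_apply]
      show (c.ι.app m).hom (ψ (Pi.single k 1)) = g.hom (π (Pi.single k 1))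
      rw [Fintype.linearCombination_apply_single, one_smul, ← hx k, ← c.w (t k)]
      rfl
    obtain ⟨k, a, hk⟩ := stage (R.image ψ) (fun y hy => by
      obtain ⟨r, hr, rfl⟩ := Finset.mem_image.mp hy
      have h0 : π r = 0 := LinearMap.mem_ker.mp (hR ▸ Submodule.subset_span hr)
      exact (LinearMap.congr_fun hψ r).trans (by rw [LinearMap.comp_apply, h0, map_zero]))
    let ψ' := (D.map a).hom.comp ψ
    have hle : LinearMap.ker π ≤ LinearMap.ker ψ' := by
      rw [← hR, Submodule.span_le]
      exact fun r hr => hk _ (Finset.mem_image_of_mem ψ hr)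
    let L : M →ₗ[A] D.obj k :=
      ((LinearMap.ker π).liftQ ψ' hle).comp (π.quotKerEquivOfSurjective hπ).symm.toLinearMap
    have hL : ∀ r, L (π r) = ψ' r := fun r => by
      show (LinearMap.ker π).liftQ ψ' hle ((π.quotKerEquivOfSurjective hπ).symm (π r)) = ψ' r
      rw [show (π.quotKerEquivOfSurjective hπ).symm (π r) = Submodule.Quotient.mk r from
        (LinearEquiv.symm_apply_eq _).mpr (by simp)]
      rfl
    refine ⟨k, ModuleCat.ofHom L, ModuleCat.hom_ext (LinearMap.ext fun v => ?_)⟩
    obtain ⟨r, rfl⟩ := hπ v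
    show g.hom (π r) = (c.ι.app k).hom (L (π r))
    rw [hL]
    refine (LinearMap.congr_fun hψ r).symm.trans ?_
    show _ = (c.ι.app k).hom ((D.map a).hom (ψ r))
    rw [← c.w a]
    rfl
  · classical
    let k := IsFiltered.max i j
    let F : M ⟶ D.obj k := f ≫ D.map (IsFiltered.leftToMax i j) - f' ≫ D.map (IsFiltered.rightToMax i j)
    have hF : F ≫ c.ι.app k = 0 := by
      rw [Preadditive.sub_comp, Category.assoc, Category.assoc, c.w, c.w]
      exact sub_eq_zero.mpr e
    obtain ⟨s, hs⟩ := (Module.Finite.fg_top (R := A) (M := M))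
    obtain ⟨l, a, hl⟩ := stage (s.image F.hom) fun y hy => by
      obtain ⟨v, _, rfl⟩ := Finset.mem_image.mp hy
      exact congrArg (fun h : M ⟶ c.pt => h.hom v) hF
    have h0 : F ≫ D.map a = 0 := ModuleCat.hom_ext (LinearMap.ext_on (hs) fun v hv =>
      hl _ (Finset.mem_image_of_mem _ hv))
    refine ⟨l, IsFiltered.leftToMax i j ≫ a, IsFiltered.rightToMax i j ≫ a, ?_⟩
    show f ≫ D.map (_ ≫ a) = f' ≫ D.map (_ ≫ a)
    rw [Preadditive.sub_comp, sub_eq_zero, Category.assoc, Category.assoc, ← D.map_comp,
      ← D.map_comp] at h0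
    exact h0

variable {A}

/-- The indices: finitely many elements and finitely many relations among them. -/
structure Idx (M : ModuleCat.{u} A) where
  /-- elements -/
  gens : Finset M
  /-- relations -/
  rels : Finset (M →₀ A)
  supported : ∀ r ∈ rels, r.support ⊆ gens
  isRel : ∀ r ∈ rels, Finsupp.linearCombination A (id : M → M) r = 0

namespace Idx

noncomputable section

variable {M : ModuleCat.{u} A}

instance : Preorder (Idx M) := Preorder.lift fun x => (x.gens, x.rels)

instance : Nonempty (Idx M) := ⟨⟨∅, ∅, by simp, by simp⟩⟩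

instance : IsDirectedOrder (Idx M) := by
  classical
  refine ⟨fun x y => ⟨⟨x.gens ∪ y.gens, x.rels ∪ y.rels, fun r hr => ?_, fun r hr => ?_⟩,
    ⟨Finset.subset_union_left, Finset.subset_union_left⟩,
    ⟨Finset.subset_union_right, Finset.subset_union_right⟩⟩⟩
  · rcases Finset.mem_union.mp hr with h | h
    exacts [(x.supported r h).trans Finset.subset_union_left,
      (y.supported r h).trans Finset.subset_union_right]
  · rcases Finset.mem_union.mp hr with h | h
    exacts [x.isRel r h, y.isRel r h]

/-- Free module on the chosen elements. -/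
abbrev F (x : Idx M) : Type u := {m // m ∈ x.gens} →₀ A

/-- Restriction of a relation to the chosen elements. -/
def res (x : Idx M) : (M →₀ A) →ₗ[A] x.F :=
  Finsupp.lsubtypeDomain {m | m ∈ x.gens}

/-- The submodule of chosen relations. -/
abbrev R (x : Idx M) : Submodule A x.F := Submodule.span A (x.res '' (x.rels : Set (M →₀ A)))

theorem fp (x : Idx M) : Module.FinitePresentation A (x.F ⧸ x.R) := by
  refine Module.finitePresentation_of_surjective x.R.mkQ (Submodule.mkQ_surjective _) ?_
  rw [Submodule.ker_mkQ]
  exact Submodule.fg_span (x.rels.finite_toSet.image _)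

/-- Inclusion of the chosen elements. -/
def incl {x y : Idx M} (h : x ≤ y) : x.F →ₗ[A] y.F :=
  Finsupp.lmapDomain A A fun m => (⟨m.1, h.1 m.2⟩ : {m // m ∈ y.gens})

theorem incl_single {x y : Idx M} (h : x ≤ y) (m : {m // m ∈ x.gens}) (a : A) :
    incl h (Finsupp.single m a) = Finsupp.single ⟨m.1, h.1 m.2⟩ a :=
  Finsupp.mapDomain_single

theorem incl_res {x y : Idx M} (h : x ≤ y) {r : M →₀ A} (hr : r.support ⊆ x.gens) :
    incl h (x.res r) = y.res r := by
  ext m
  by_cases hm : m.1 ∈ x.gens
  · exact (Finsupp.mapDomain_apply (f := fun m : {m // m ∈ x.gens} => (⟨m.1, h.1 m.2⟩ : {m // m ∈ y.gens}))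
      (fun a b e => Subtype.ext (congrArg (fun z : {m // m ∈ y.gens} => z.1) e)) (x.res r) ⟨m.1, hm⟩)
  · refine (Finsupp.mapDomain_notin_range (x.res r) m ?_).trans ?_
    · rintro ⟨m', e⟩
      exact hm (congrArg Subtype.val e ▸ m'.2)
    · exact (Finsupp.notMem_support_iff.mp fun h' => hm (hr h')).symm

theorem incl_refl (x : Idx M) (h : x ≤ x) : incl h = LinearMap.id :=
  Finsupp.lhom_ext fun m a => incl_single h m a

theorem incl_incl {x y z : Idx M} (h : x ≤ y) (h' : y ≤ z) :
    (incl h').comp (incl h) = incl (h.trans h') :=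
  Finsupp.lhom_ext fun m a => by
    rw [LinearMap.comp_apply, incl_single, incl_single, incl_single]

theorem R_le {x y : Idx M} (h : x ≤ y) : x.R ≤ y.R.comap (incl h) := by
  rw [Submodule.span_le]
  rintro _ ⟨r, hr, rfl⟩
  show incl h (x.res r) ∈ y.R
  rw [incl_res h (x.supported r hr)]
  exact Submodule.subset_span ⟨r, h.2 hr, rfl⟩

/-- The diagram. -/
def diag (M : ModuleCat.{u} A) : Idx M ⥤ ModuleCat.{u} A where
  obj x := ModuleCat.of A (x.F ⧸ x.R)
  map {x y} h := ModuleCat.ofHom (Submodule.mapQ x.R y.R (incl (leOfHom h)) (R_le (leOfHom h)))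
  map_id x := by
    apply ModuleCat.hom_ext
    refine Submodule.linearMap_qext _ ?_
    show x.R.mkQ.comp (incl _) = x.R.mkQ
    rw [incl_refl, LinearMap.comp_id]
  map_comp {x y z} f g := by
    apply ModuleCat.hom_ext
    refine Submodule.linearMap_qext _ ?_
    show z.R.mkQ.comp (incl (leOfHom (f ≫ g))) = z.R.mkQ.comp ((incl (leOfHom g)).comp (incl (leOfHom f)))
    rw [incl_incl]

/-- The stage containing only one element. -/
def single (m : M) : Idx M := ⟨{m}, ∅, by simp, by simp⟩

/-- The element `m` at its stage. -/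
def pt (m : M) : (single m).F ⧸ (single m).R :=
  Submodule.Quotient.mk (Finsupp.single ⟨m, Finset.mem_singleton_self m⟩ 1)

theorem lc_res (x : Idx M) {N : Type u} [AddCommGroup N] [Module A N] (g : M → N) {r : M →₀ A}
    (hr : r.support ⊆ x.gens) :
    Finsupp.linearCombination A (fun m : {m // m ∈ x.gens} => g m.1) (x.res r) =
      Finsupp.linearCombination A g r := by
  rw [Finsupp.linearCombination_apply, Finsupp.linearCombination_apply]
  exact Finsupp.sum_subtypeDomain_index (p := fun m => m ∈ x.gens) (h := fun m a => a • g m)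
    fun m hm => hr hm

theorem exists_presentation (M : ModuleCat.{u} A) :
    ∃ (J : Type u) (_ : SmallCategory J) (_ : IsFiltered J) (p : ColimitPresentation J M),
      ∀ j, fpMod A (p.diag.obj j) := by
  classical
  let π : ∀ x : Idx M, (x.F ⧸ x.R) →ₗ[A] M := fun x =>
    Submodule.liftQ x.R (Finsupp.linearCombination A fun m : {m // m ∈ x.gens} => m.1) (by
      rw [Submodule.span_le]
      rintro _ ⟨r, hr, rfl⟩
      exact (lc_res x (fun m => m) (x.supported r hr)).trans (x.isRel r hr))
  let ι : diag M ⟶ (Functor.const _).obj M :=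
    { app := fun x => ModuleCat.ofHom (π x)
      naturality := fun x y h => by
        apply ModuleCat.hom_ext
        refine Submodule.linearMap_qext _ (Finsupp.lhom_ext fun m a => ?_)
        show Finsupp.linearCombination A (fun m : {m // m ∈ y.gens} => m.1)
          (incl (leOfHom h) (Finsupp.single m a)) = Finsupp.linearCombination A _ (Finsupp.single m a)
        rw [incl_single, Finsupp.linearCombination_single, Finsupp.linearCombination_single] }
  let ev : ∀ (s : Cocone (diag M)), M → s.pt := fun s m => (s.ι.app (single m)).hom (pt m)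
  have hev : ∀ (s : Cocone (diag M)) (x : Idx M), (s.ι.app x).hom.comp x.R.mkQ =
      Finsupp.linearCombination A (fun m : {m // m ∈ x.gens} => ev s m.1) := fun s x =>
    Finsupp.lhom_ext fun m a => by
      rw [Finsupp.linearCombination_single]
      have hle : single m.1 ≤ x :=
        ⟨Finset.singleton_subset_iff.mpr m.2, Finset.empty_subset _⟩
      have hw : ev s m.1 = (s.ι.app x).hom (x.R.mkQ (Finsupp.single m 1)) := by
        show (s.ι.app (single m.1)).hom (pt m.1) = _
        rw [← s.w (homOfLE hle)]
        exact congrArg (fun z => (s.ι.app x).hom (x.R.mkQ z)) (incl_single hle _ _)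
      let σ : (x.F ⧸ x.R) →ₗ[A] s.pt := (s.ι.app x).hom
      show σ.comp x.R.mkQ (Finsupp.single m a) = a • ev s m.1
      rw [show ev s m.1 = σ.comp x.R.mkQ (Finsupp.single m 1) from hw, ← map_smul, Finsupp.smul_single,
        smul_eq_mul, mul_one]
  have hrel : ∀ (s : Cocone (diag M)) (r : M →₀ A),
      Finsupp.linearCombination A (id : M → M) r = 0 → Finsupp.linearCombination A (ev s) r = 0 := by
    intro s r hr
    let x : Idx M := ⟨r.support, {r}, by simp, by simpa using hr⟩
    have h0 : x.R.mkQ (x.res r) = 0 := (Submodule.Quotient.mk_eq_zero _).mpr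
      (Submodule.subset_span ⟨r, Finset.mem_singleton_self r, rfl⟩)
    refine (lc_res x (ev s) (subset_refl _)).symm.trans ?_
    exact (LinearMap.congr_fun (hev s x) _).symm.trans ((congrArg (s.ι.app x).hom h0).trans (map_zero _))
  let L : ∀ s : Cocone (diag M), M →ₗ[A] s.pt := fun s =>
    { toFun := ev s
      map_add' := fun m m' => by
        have h := hrel s (Finsupp.single m 1 + Finsupp.single m' 1 - Finsupp.single (m + m') 1)
          (by simp)
        have h' : ev s m + ev s m' - ev s (m + m') = 0 := by simpa using h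
        exact (sub_eq_zero.mp h').symm
      map_smul' := fun a m => by
        have h := hrel s (Finsupp.single m a - Finsupp.single (a • m) 1) (by simp)
        have h' : a • ev s m - ev s (a • m) = 0 := by simpa using h
        exact (sub_eq_zero.mp h').symm }
  refine ⟨Idx M, inferInstance, inferInstance, { diag := diag M, ι := ι, isColimit :=
    { desc := fun s => ModuleCat.ofHom (L s)
      fac := fun s x => ?_
      uniq := fun s g hg => ?_ } }, fun x => x.fp⟩
  · apply ModuleCat.hom_ext
    refine Submodule.linearMap_qext _ (Finsupp.lhom_ext fun m a => ?_)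
    refine Eq.trans ?_ (LinearMap.congr_fun (hev s x) (Finsupp.single m a)).symm
    show L s (Finsupp.linearCombination A (fun m : {m // m ∈ x.gens} => m.1) (Finsupp.single m a)) = _
    rw [Finsupp.linearCombination_single, Finsupp.linearCombination_single, map_smul]
    rfl
  · apply ModuleCat.hom_ext
    refine LinearMap.ext fun m => ?_
    show g.hom m = ev s m
    refine Eq.trans ?_ (congrArg (fun h => h.hom (pt m)) (hg (single m)))
    show g.hom m = g.hom (Finsupp.linearCombination A (fun m : {k // k ∈ (single m).gens} => m.1) (Finsupp.single _ 1))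
    rw [Finsupp.linearCombination_single, one_smul]

end

end Idx

variable (A)

theorem gen_fpMod : Gen (fpMod A) :=
  ⟨presentable_fpMod A, Idx.exists_presentation⟩

end Groth.Agent.Lib.CohDelta.IndExt
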